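import Mathlib
import Cfsg.Agent.Base
import Cfsg.Agent.Lib.Six8.Solv
import Cfsg.Agent.Lib.FGS.SmallExp
import Cfsg.Agent.Lib.FrobC.SL23
import Cfsg.Agent.Lib.GL.SylowSL2

/-! The Frobenius complements with element orders `1, 2, 3, 4, 6`. -/

set_option autoImplicit false

namespace H8.Six

open Subgroup

variable {K : Type*} [Group K] [Finite K]

theorem Ok.two_sub (h : Ok K) (hu : ∀ a b : K, a * a = 1 → a ≠ 1 → b * b = 1 → b ≠ 1 → a = b)
    {E : Subgroup K} (hE : IsPGroup 2 E) {s : K} (hs : s ∈ E) (h2 : s ^ 2 ≠ 1) :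
    (IsCyclic E ∧ Nat.card E = 4) ∨ Nonempty (E ≃* QuaternionGroup 2) := by
  haveI := Fact.mk Nat.prime_two
  have inv : ∀ a : E, orderOf a = 2 → (a : K) * a = 1 ∧ (a : K) ≠ 1 := fun a ha =>
    ⟨by rw [← pow_two, ← ha, ← coe_pow, pow_orderOf_eq_one, coe_one],
      fun e => by simp [show a = 1 from Subtype.ext e] at ha⟩
  refine H79.cyclic_four_or_quaternion hE (fun a b ha hb =>
    Subtype.ext (hu _ _ (inv a ha).1 (inv a ha).2 (inv b hb).1 (inv b hb).2)) ⟨⟨s, hs⟩, ?_⟩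
    fun g hg => absurd ((Nat.le_of_dvd (orderOf_pos g) hg).trans (h.sub E g)) (by norm_num)
  rw [orderOf_mk, orderOf_eq_prime_pow (p := 2) (n := 1) h2 (h.pow4_mem hE hs)]
  rfl

theorem Ok.index_syl (h : Ok K) (h5 : ¬ 5 ∣ Nat.card K) {p q : ℕ} [Fact p.Prime]
    (hpq : p = 2 ∧ q = 3 ∨ p = 3 ∧ q = 2) {m : ℕ} (hm : m ∣ Nat.card K) (hp : ¬ p ∣ m) :
    ∃ k, m = q ^ k :=
  ⟨_, Nat.eq_prime_pow_of_unique_prime_dvd (fun e => hp (e ▸ dvd_zero p)) fun {r} hr hd => by
    rcases h.prime_dvd hr (hd.trans hm) with rfl | rfl | rfl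
    · rcases hpq with ⟨rfl, rfl⟩ | ⟨rfl, rfl⟩
      exacts [absurd hd hp, rfl]
    · rcases hpq with ⟨rfl, rfl⟩ | ⟨rfl, rfl⟩
      exacts [rfl, absurd hd hp]
    · exact absurd (hd.trans hm) h5⟩

theorem Ok.compl (h : Ok K) (h5 : ¬ 5 ∣ Nat.card K) (h9 : ¬ 3 ^ 2 ∣ Nat.card K)
    (h3 : 3 ∣ Nat.card K) (hu : ∀ a b : K, a * a = 1 → a ≠ 1 → b * b = 1 → b ≠ 1 → a = b)
    {s : K} (h4 : s ^ 4 = 1) (h2 : s ^ 2 ≠ 1) :
    Nonempty (K ≃* QuaternionGroup 3) ∨ Nonempty (K ≃* H82.SL23) := by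
  haveI := Fact.mk Nat.prime_two
  haveI := Fact.mk Nat.prime_three
  classical
  obtain ⟨Y⟩ : Nonempty (Sylow 3 K) := inferInstance
  have hY : Nat.card Y = 3 := by
    obtain ⟨k, hk⟩ := Y.isPGroup'.exists_card_eq
    rcases k with _ | _ | k
    · exact absurd (card_eq_one.1 hk) (Y.ne_bot_of_dvd_card h3)
    · exact hk
    · exact absurd ((pow_dvd_pow 3 (by omega)).trans (hk ▸ card_subgroup_dvd_card _)) h9
  obtain ⟨⟨y, hyY⟩, hy1'⟩ := ne_bot_iff_exists_ne_one.1 (Y.ne_bot_of_dvd_card h3)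
  have hy1 : y ≠ 1 := fun e => hy1' (Subtype.ext e)
  have hy : y ^ 3 = 1 := h.pow3_mem Y.isPGroup' hyY
  have hYy : zpowers y = Y := eq_of_le_of_card_ge (zpowers_le.2 hyY) (by
    rw [hY, Nat.card_zpowers, orderOf_eq_prime hy hy1])
  by_cases hN : normalizer (Y : Set K) ≤ centralizer (Y : Set K)
  · have hc := MonoidHom.ker_transferSylow_isComplement' Y hN
    set E := (MonoidHom.transferSylow Y hN).ker
    have hi : E.index = 3 := hc.symm.index_eq_card.trans hY
    obtain ⟨k, hk⟩ := h.index_syl h5 (.inr ⟨rfl, rfl⟩) (card_subgroup_dvd_card E)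
      (hc.index_eq_card ▸ Y.not_dvd_index)
    have hs : s ∈ E := by
      have := pow_mem (hi ▸ E.pow_index_mem s) 3
      rwa [← pow_mul, show 3 * 3 = 4 * 2 + 1 from rfl, pow_succ, pow_mul, h4, one_pow, one_mul] at this
    have hyE : y ∉ centralizer (E : Set K) := fun e =>
      h2 (h.comm3 hy hy1 (mem_centralizer_iff.1 e s hs) h4)
    rcases h.two_sub hu (.of_card hk) hs h2 with ⟨_, hE⟩ | ⟨⟨e⟩⟩
    · exact absurd (cent_of_cyclic E (.inl hE) hy) hyE
    · obtain ⟨f, hf, hr⟩ := H82.exists_SL23_of_q8 e (le_normalizer_of_normal (mem_top y)) hy hyE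
      exact .inr ⟨(MulEquiv.ofBijective f ⟨hf, MonoidHom.range_eq_top.1
        (by rw [hr, hYy, hc.sup_eq_top])⟩).symm⟩
  have cen : ∀ a g : K, a * a = 1 → g * a = a * g := fun a g ha => by
    by_cases h1 : a = 1
    · simp [h1]
    · exact mul_inv_eq_iff_eq_mul.1 (hu _ _ (by rw [conj_mul, ha]; simp) (by simpa using h1) ha h1)
  have two : ∀ n ∈ normalizer (Y : Set K), n * y = y * n ∨ n * y * n⁻¹ = y⁻¹ := fun n hn => by
    have h1 : n * y * n⁻¹ ∈ zpowers y := hYy ▸ (mem_normalizer_iff.1 hn y).1 hyY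
    rw [mem_zpowers_iff_mem_range_orderOf, orderOf_eq_prime hy hy1] at h1
    obtain ⟨i, hi, e⟩ := Finset.mem_image.1 h1
    rw [Finset.mem_range] at hi
    interval_cases i
    · exact absurd (by simpa using e.symm) hy1
    · exact .inl (mul_inv_eq_iff_eq_mul.1 (by simpa using e.symm))
    · exact .inr (e.symm.trans (eq_inv_of_mul_eq_one_left (by rw [← pow_succ, hy])))
  have ne : y ≠ y⁻¹ := fun e => hy1 (eq_one_of_pow hy
    (by rw [pow_two]; nth_rw 2 [e]; rw [mul_inv_cancel]) (by norm_num : Nat.Coprime 3 2))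
  obtain ⟨n, hn, hnc⟩ := SetLike.not_le_iff_exists.1 hN
  have hny : n * y ≠ y * n := fun e => hnc (mem_centralizer_iff.2 fun x hx => by
    obtain ⟨i, rfl⟩ := mem_zpowers_iff.1 (hYy.ge hx)
    exact (Commute.zpow_right e i).eq.symm)
  have hi := (two n hn).resolve_left hny
  have c2 : Commute (n * n) y := mul_inv_eq_iff_eq_mul.1 (by
    calc n * n * y * (n * n)⁻¹ = n * (n * y * n⁻¹) * n⁻¹ := by group
      _ = y := by rw [hi, ← conj_inv, hi, inv_inv])
  have n4 : n ^ 4 = 1 := by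
    rcases h.cases n with e | e | e
    · exact e
    · exact absurd (Six.five_dvd e (fun e => hny (by simp [e])) (mem_top n)) (by simpa using h5)
    · have c3 : Commute y (n ^ 3) := cen _ _ (by rw [← pow_add, e])
      exact absurd (by simpa [pow_succ, mul_assoc] using (c3.mul_right c2.symm.inv_right).eq.symm) hny
  have n2 : n * n ≠ 1 := fun e => hny (cen n y e).symm
  have n4' : (n * n) ^ 2 = 1 := by rw [← pow_two, ← pow_mul, n4]
  have ho : orderOf (n * n * y) = 2 * 3 := by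
    rw [c2.orderOf_mul_eq_mul_orderOf_of_coprime] <;>
      rw [orderOf_eq_prime n4' n2, orderOf_eq_prime hy hy1]
    norm_num
  have r1 : (n * n * y) ^ (2 * 3) = 1 := ho ▸ pow_orderOf_eq_one _
  have r2 : n * n = (n * n * y) ^ 3 := by rw [c2.mul_pow, hy, mul_one, pow_succ, n4', one_mul]
  have r3 : n * (n * n * y) * n⁻¹ = (n * n * y)⁻¹ := by
    rw [c2.mul_inv, ← hi, inv_eq_of_mul_eq_one_right ((pow_two (n * n)).symm.trans n4')]; group
  have hf := H10.quatHom_injective _ n r1 r2 r3 ho fun e => by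
    obtain ⟨i, e⟩ := mem_zpowers_iff.1 e
    exact hny (e ▸ ((c2.mul_left (Commute.refl y)).zpow_left i).eq)
  set f := H10.quatHom _ n r1 r2 r3
  have cQ : ∀ m [NeZero m], Nat.card (QuaternionGroup m) = 4 * m := fun m _ => by
    rw [Nat.card_eq_fintype_card, QuaternionGroup.card]
  have hz : IsPGroup 2 (zpowers s) := .of_card (n := 2) (by
    rw [Nat.card_zpowers, orderOf_eq_prime_pow (p := 2) (n := 1) h2 h4])
  obtain ⟨S, hS⟩ := hz.exists_le_sylow
  have hSi : S.index = 3 := by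
    obtain ⟨k, hk⟩ := h.index_syl h5 (.inl ⟨rfl, rfl⟩) S.index_dvd_card S.not_dvd_index
    obtain ⟨j, hj⟩ := S.isPGroup'.exists_card_eq
    rcases k with _ | _ | k
    · rw [← S.card_mul_index, hk, hj, pow_zero, mul_one] at h3
      exact absurd (Nat.prime_three.dvd_of_dvd_pow h3) (by norm_num)
    · exact hk
    · exact absurd ((pow_dvd_pow 3 (by omega)).trans (hk ▸ S.index_dvd_card)) h9
  have hK := S.card_mul_index
  rcases h.two_sub hu S.isPGroup' (hS (mem_zpowers s)) h2 with ⟨-, hE⟩ | ⟨⟨e⟩⟩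
  · exact .inl ⟨(MulEquiv.ofBijective f ((Nat.bijective_iff_injective_and_card f).2
      ⟨hf, by rw [cQ, ← hK, hE, hSi]⟩)).symm⟩
  exfalso
  have hr : f.range ≤ normalizer (Y : Set K) := by
    have hm : n * n * y ∈ normalizer (Y : Set K) := mul_mem (mul_mem hn hn) (le_normalizer hyY)
    rintro _ ⟨i | i, rfl⟩
    · rw [H10.quatHom_a]; exact pow_mem hm _
    · rw [H10.quatHom_xa]; exact mul_mem hn (pow_mem hm _)
  have h1 := f.range.card_mul_index
  rw [← Nat.card_congr (MonoidHom.ofInjective hf).toEquiv, cQ, ← hK, Nat.card_congr e.toEquiv, cQ,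
    hSi] at h1
  have h6 := Nat.le_of_dvd (by omega) (index_dvd_of_le hr)
  have h7 : _ % 3 = _ := card_sylow_modEq_one 3 K
  rw [Y.card_eq_index_normalizer] at h7
  have h8 := index_eq_one.1 (show (normalizer (Y : Set K)).index = 1 by omega)
  have all : ∀ q : QuaternionGroup 2, q ^ 2 ≠ 1 → (e.symm q : K) * y * (e.symm q : K)⁻¹ = y⁻¹ :=
    fun q hq => (two _ (h8.ge trivial)).resolve_left fun c => hq (e.symm.injective (Subtype.ext (by
      simpa using h.comm3 hy hy1 c (h.pow4_mem S.isPGroup' (e.symm q).2))))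
  have e1 := all (.a 1 * .xa 0) (by decide)
  rw [map_mul, coe_mul, mul_inv_rev, ← mul_assoc, mul_assoc _ _ y, mul_assoc _ (_ * y),
    all _ (by decide), ← conj_inv, all _ (by decide), inv_inv] at e1
  exact ne e1

end H8.Six
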